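import Mathlib
import Cfsg.Prelude.Def_Characters
import Cfsg.Agent.Characters.Core
import Cfsg.Agent.Characters.Linear
import Cfsg.Agent.Characters.CCBasic
import Cfsg.Agent.S0146
import Cfsg.Agent.SmallSimple.NormThree
import Cfsg.Agent.SmallSimple.DihedralNormChar
import Cfsg.Agent.H398.CC.Group

/-!
# Exceptional characters for an abelian CC-subgroup `P` of odd order with `|N(P)| = 2|P|`

For every nontrivial linear character `μ` of `P`, `Ind_P^G (1 - μ) = 1 + α_μ - β_μ`; either all
`α_μ` are equal or all `β_μ` are equal.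
-/

set_option autoImplicit false

namespace Cfsg.Agent.H398.CC

open Subgroup Cfsg Cfsg.Agent.Characters.Core
open Cfsg.Agent.SmallSimple.DihedralNormChar (baseFun baseFun_apply baseFun_one ind_eq_zero ind_one
  isGeneralizedCharacter_ind conj_hom sum_hom_eq_zero)
open scoped ComplexConjugate

universe u

variable {G : Type u} [Group G] {P : Subgroup G}

theorem sum_hom {A : Type*} [Group A] [Fintype A] (f : A →* ℂˣ) [Decidable (f = 1)] :
    ∑ x : A, (f x : ℂ) = if f = 1 then (Nat.card A : ℂ) else 0 := by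
  split_ifs with hf
  · subst hf
    simp
  · have h1 : (Units.coeHom ℂ).comp f ≠ 1 := by
      intro h
      apply hf
      ext x
      have := DFunLike.congr_fun h x
      simpa using this
    exact sum_hom_units_eq_zero _ h1

/-- A function on an abelian group orthogonal to all `1 - μ` vanishes off `1`. -/
theorem flat {A : Type u} [Group A] [Fintype A] (hc : ∀ a b : A, a * b = b * a) (f : A → ℂ)
    (hf : ∀ μ : A →* ℂˣ, μ ≠ 1 → classInner (baseFun μ) f = 0) :
    (∀ x : A, x ≠ 1 → f x = 0) ∧ f 1 = Nat.card A * classInner f 1 := by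
  classical
  have hcl : ∀ g : A → ℂ, IsClassFunction A g := by
    intro g x y
    rw [show y * x * y⁻¹ = x by rw [hc y x, mul_assoc, mul_inv_cancel, mul_one]]
  have hA : (Nat.card A : ℂ) ≠ 0 := card_ne_zero_complex
  set b := classInner f 1 with hb
  set f' : A → ℂ := fun x => if x = 1 then (Nat.card A : ℂ) * b else 0 with hf'
  have key : f = f' := by
    apply classFunction_ext (hcl f) (hcl f')
    intro χ hχ
    obtain ⟨μ, rfl⟩ := Cfsg.Agent.Characters.CCBasic.exists_hom_of_comm hc hχ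
    have h1 : classInner f' (fun a => (μ a : ℂ)) = b := by
      rw [classInner_def]
      rw [Finset.sum_eq_single (1 : A)]
      · simp only [hf', if_true, map_one, Units.val_one, mul_one]
        rw [← mul_assoc, inv_mul_cancel₀ hA, one_mul]
      · intro x _ hx
        simp only [hf', if_neg hx, zero_mul]
      · intro h; exact absurd (Finset.mem_univ _) h
    rw [h1]
    by_cases hμ : μ = 1
    · subst hμ
      rw [hb]
      congr 1
    · have h2 := hf μ hμ
      have h3 : baseFun μ = (1 : A → ℂ) - (fun a => (μ a : ℂ)) := by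
        funext a; simp [baseFun_apply]
      rw [h3, classInner_sub_left, sub_eq_zero] at h2
      have h4 := congrArg conj h2
      rw [classInner_conj_symm, classInner_conj_symm] at h4
      rw [hb]
      exact h4.symm
  refine ⟨fun x hx => ?_, ?_⟩
  · rw [key]; simp only [hf', if_neg hx]
  · rw [key]
    simp only [hf', if_true]

namespace IsDCC

variable (h : IsDCC P)

include h

theorem sq_ne_one {μ : P →* ℂˣ} (hμ : μ ≠ 1) : μ * μ ≠ 1 := by
  intro h2
  apply hμ
  ext x
  have hfin := h.finite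
  have h1 : μ x ^ 2 = 1 := by
    have := DFunLike.congr_fun h2 x
    rw [pow_two]
    simpa using this
  have h3 : μ x ^ Nat.card P = 1 := by
    rw [← map_pow, pow_card_eq_one', map_one]
  have h4 : orderOf (μ x) ∣ 1 := by
    rw [← h.odd.coprime_two_right]
    exact Nat.dvd_gcd (orderOf_dvd_of_pow_eq_one h3) (orderOf_dvd_of_pow_eq_one h1)
  have h5 : μ x = 1 := orderOf_eq_one_iff.1 (Nat.dvd_one.1 h4)
  rw [h5]; simp

section ind

variable [Fintype G] (μ : P →* ℂˣ)

theorem ind_of_mem {g : G} (hg : g ∈ P) (hg1 : g ≠ 1) :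
    indFun P (baseFun μ) g = 2 - (μ ⟨g, hg⟩ : ℂ) - ((μ ⟨g, hg⟩ : ℂ))⁻¹ := by
  classical
  rw [indFun_apply]
  set A : ℂ := 1 - (μ ⟨g, hg⟩ : ℂ) with hA
  set B : ℂ := 1 - ((μ ⟨g, hg⟩ : ℂ))⁻¹ with hB
  have key : ∀ x : G, extendByZero P (baseFun μ) (x⁻¹ * g * x) =
      (if x ∈ P then A else 0) + (if x ∈ normalizer (P : Set G) ∧ x ∉ P then B else 0) := by
    intro x
    by_cases hxP : x ∈ P
    · have h1 : x⁻¹ * g * x = g := by
        rw [mul_assoc, h.comm g hg x hxP, inv_mul_cancel_left]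
      rw [h1, if_pos hxP, if_neg (fun h => h.2 hxP), add_zero, extendByZero_of_mem _ _ hg,
        baseFun_apply]
    · by_cases hxN : x ∈ normalizer (P : Set G)
      · have h1 : x⁻¹ * g * x = g⁻¹ := by
          have := h.conj_eq_inv (inv_mem hxN) (fun h => hxP (inv_mem_iff.1 h)) hg
          rwa [inv_inv] at this
        rw [h1, if_neg hxP, if_pos ⟨hxN, hxP⟩, zero_add, extendByZero_of_mem _ _ (P.inv_mem hg),
          baseFun_apply]
        have : (⟨g⁻¹, P.inv_mem hg⟩ : P) = (⟨g, hg⟩ : P)⁻¹ := rfl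
        rw [this, map_inv, Units.val_inv_eq_inv_val]
      · rw [if_neg hxP, if_neg (fun h => hxN h.1), add_zero]
        apply extendByZero_of_notMem
        intro h'
        apply hxN
        have h2 : x⁻¹ ∈ normalizer (P : Set G) :=
          h.conj _ hg hg1 _ (by rwa [inv_inv])
        exact inv_mem_iff.1 h2
  rw [Finset.sum_congr rfl fun x _ => key x, Finset.sum_add_distrib, ← Finset.sum_filter,
    ← Finset.sum_filter, Finset.sum_const, Finset.sum_const]
  have e1 : (Finset.univ.filter (fun x : G => x ∈ P)).card = Nat.card P := by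
    rw [Nat.card_eq_fintype_card, Fintype.card_subtype]
  have e2 : (Finset.univ.filter
      (fun x : G => x ∈ normalizer (P : Set G) ∧ x ∉ P)).card = Nat.card P := by
    have := h.card_diff
    rw [← this, Nat.card_eq_fintype_card, Fintype.card_subtype]
  rw [e1, e2, nsmul_eq_mul, nsmul_eq_mul]
  have hp0 : (Nat.card P : ℂ) ≠ 0 := by exact_mod_cast h.card_pos.ne'
  rw [← mul_add, ← mul_assoc, inv_mul_cancel₀ hp0, one_mul, hA, hB]
  ring

theorem ind_of_mem' (x : P) :
    indFun P (baseFun μ) (x : G) = 2 - (μ x : ℂ) - ((μ x : ℂ))⁻¹ := by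
  by_cases h1 : (x : G) = 1
  · have hx : x = 1 := Subtype.ext h1
    rw [hx, Subgroup.coe_one, ind_one, map_one, Units.val_one, inv_one]
    norm_num
  · exact h.ind_of_mem μ x.2 h1

omit h in
theorem isClassFunction_ind : IsClassFunction G (indFun P (baseFun μ)) := by
  obtain ⟨χ, ψ, h1, h2, h3⟩ := isGeneralizedCharacter_ind μ
  rw [h3]
  intro g h
  rw [Pi.sub_apply, Pi.sub_apply, isCharacter_isClassFunction h1, isCharacter_isClassFunction h2]

omit [Fintype G] in
theorem inner_base_one [Fintype P] (hμ : μ ≠ 1) :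
    classInner (baseFun μ) (fun _ : P => (1 : ℂ)) = 1 := by
  classical
  rw [classInner_def]
  simp only [map_one, mul_one, baseFun_apply, Finset.sum_sub_distrib]
  rw [sum_hom μ, if_neg hμ, Finset.sum_const, Finset.card_univ,
    ← Nat.card_eq_fintype_card, nsmul_eq_mul, mul_one, sub_zero]
  apply inv_mul_cancel₀
  exact_mod_cast h.card_pos.ne'

theorem inner_one (hμ : μ ≠ 1) : classInner (indFun P (baseFun μ)) 1 = 1 := by
  classical
  rw [Cfsg.Agent.S0146.result P (baseFun μ) 1 (isIrr_isClassFunction isIrr_one)]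
  exact h.inner_base_one μ hμ

theorem inner_ind {μ ν : P →* ℂˣ} [Decidable (μ = ν)] [Decidable (μ * ν = 1)]
    (hμ : μ ≠ 1) (hν : ν ≠ 1) :
    classInner (indFun P (baseFun μ)) (indFun P (baseFun ν)) =
      2 + (if μ = ν then 1 else 0) + (if μ * ν = 1 then 1 else 0) := by
  classical
  rw [Cfsg.Agent.S0146.result P (baseFun μ) _ (isClassFunction_ind ν), classInner_def]
  have hfin := h.finite
  have key : ∀ x : P, baseFun μ x * conj (indFun P (baseFun ν) (x : G)) =
      2 - 2 * (μ x : ℂ) - (ν x : ℂ) - ((ν⁻¹ x : ℂˣ) : ℂ) + (((μ * ν⁻¹) x : ℂˣ) : ℂ)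
        + (((μ * ν) x : ℂˣ) : ℂ) := by
    intro x
    have hne : (ν x : ℂ) ≠ 0 := Units.ne_zero _
    rw [h.ind_of_mem' ν x, baseFun_apply, map_sub, map_sub, map_inv₀, conj_hom,
      inv_inv, map_ofNat, MonoidHom.inv_apply, MonoidHom.mul_apply, MonoidHom.mul_apply,
      MonoidHom.inv_apply, Units.val_mul, Units.val_mul, Units.val_inv_eq_inv_val]
    field_simp
    ring
  have hν' : ν⁻¹ ≠ 1 := by
    intro h'
    apply hν
    ext x
    have h1 := DFunLike.congr_fun h' x
    rw [MonoidHom.inv_apply, MonoidHom.one_apply, inv_eq_one] at h1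
    rw [h1]; rfl
  rw [Finset.sum_congr rfl fun x _ => key x]
  rw [Finset.sum_add_distrib, Finset.sum_add_distrib, Finset.sum_sub_distrib,
    Finset.sum_sub_distrib, Finset.sum_sub_distrib, ← Finset.mul_sum, sum_hom μ, sum_hom ν,
    sum_hom ν⁻¹, sum_hom (μ * ν⁻¹), sum_hom (μ * ν), if_neg hμ, if_neg hν,
    if_neg hν', Finset.sum_const, Finset.card_univ,
    ← Nat.card_eq_fintype_card, nsmul_eq_mul]
  have hp0 : (Nat.card P : ℂ) ≠ 0 := by exact_mod_cast h.card_pos.ne'
  have hiff : μ * ν⁻¹ = 1 ↔ μ = ν := by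
    constructor
    · intro h'
      ext x
      have h1 := DFunLike.congr_fun h' x
      rw [MonoidHom.mul_apply, MonoidHom.inv_apply, MonoidHom.one_apply, mul_inv_eq_one] at h1
      rw [h1]
    · rintro rfl
      ext x
      simp
  simp only [hiff]
  split_ifs <;> field_simp <;> ring

theorem inner_self (hμ : μ ≠ 1) :
    classInner (indFun P (baseFun μ)) (indFun P (baseFun μ)) = 3 := by
  classical
  rw [h.inner_ind hμ hμ, if_pos rfl, if_neg (h.sq_ne_one hμ)]
  norm_num

end ind

end IsDCC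

/-- The pair of characters attached to a linear character `μ` of `P`. -/
structure IsPair [Fintype G] (P : Subgroup G) (μ : P →* ℂˣ) (α β : G → ℂ) : Prop where
  ne : μ ≠ 1
  irra : IsIrrCharacter G α
  irrb : IsIrrCharacter G β
  a1 : α ≠ 1
  b1 : β ≠ 1
  ab : α ≠ β
  eq : indFun P (baseFun μ) = 1 + α - β

namespace IsPair

variable [Fintype G] {μ ν : P →* ℂˣ} {α β α' β' : G → ℂ}

theorem vanish (hp : IsPair P μ α β) {g : G}
    (hg : ∀ x : G, x⁻¹ * g * x ∈ P → x⁻¹ * g * x = 1) : 1 + α g = β g := by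
  have h := ind_eq_zero μ hg
  rw [hp.eq] at h
  simp only [Pi.add_apply, Pi.sub_apply, Pi.one_apply] at h
  exact sub_eq_zero.1 h

theorem deg (hp : IsPair P μ α β) : β 1 = α 1 + 1 := by
  rw [← hp.vanish (fun x _ => by group), add_comm]

/-- Two pairs share a character at the same place. -/
theorem inter (h : IsDCC P) (hp : IsPair P μ α β) (hq : IsPair P ν α' β') : α = α' ∨ β = β' := by
  classical
  by_contra hcon
  push Not at hcon
  have h1 := h.inner_ind hp.ne hq.ne
  rw [hp.eq, hq.eq] at h1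
  simp only [classInner_add_left, classInner_sub_left, classInner_add_right,
    classInner_sub_right] at h1
  rw [classInner_irr isIrr_one isIrr_one, classInner_irr isIrr_one hq.irra,
    classInner_irr isIrr_one hq.irrb, classInner_irr hp.irra isIrr_one,
    classInner_irr hp.irra hq.irra, classInner_irr hp.irra hq.irrb,
    classInner_irr hp.irrb isIrr_one, classInner_irr hp.irrb hq.irra,
    classInner_irr hp.irrb hq.irrb, if_pos rfl, if_neg hq.a1.symm, if_neg hq.b1.symm,
    if_neg hp.a1, if_neg hp.b1, if_neg hcon.1, if_neg hcon.2] at h1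
  split_ifs at h1 <;> norm_num at h1

/-- Sunflower: all `α` are equal or all `β` are equal. -/
theorem common (h : IsDCC P) (hp : IsPair P μ α β) :
    (∀ ν α' β', IsPair P ν α' β' → α' = α) ∨ (∀ ν α' β', IsPair P ν α' β' → β' = β) := by
  by_contra hcon
  push Not at hcon
  obtain ⟨⟨ν, α', β', hq, hne⟩, ⟨ν', α'', β'', hr, hne'⟩⟩ := hcon
  have h1 : β = β' := (inter h hp hq).resolve_left (Ne.symm hne)
  have h2 : α = α'' := (inter h hp hr).resolve_right (Ne.symm hne')
  rcases inter h hq hr with h3 | h3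
  · exact hne (h3.trans h2.symm)
  · exact hne' (h3.symm.trans h1.symm)

end IsPair

namespace IsDCC

variable [Fintype G] (h : IsDCC P)

include h

theorem exists_pair (μ : P →* ℂˣ) (hμ : μ ≠ 1) : ∃ α β : G → ℂ, IsPair P μ α β := by
  obtain ⟨α, β, hα, hβ, hα1, hβ1, hαβ, hΘ⟩ := Cfsg.Agent.SmallSimple.NormThree.exists_of_norm_three
    (isGeneralizedCharacter_ind μ) (h.inner_one μ hμ) (h.inner_self μ hμ) (ind_one μ)
  exact ⟨α, β, hμ, hα, hβ, hα1, hβ1, hαβ, hΘ⟩

omit [Fintype G] in
/-- There is a nontrivial linear character. -/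
theorem exists_hom_ne_one : ∃ μ : P →* ℂˣ, μ ≠ 1 := by
  classical
  have hfin := h.finite
  have : Fintype P := Fintype.ofFinite P
  by_contra hcon
  push Not at hcon
  obtain ⟨y, hy, hy1⟩ := h.exists_ne
  have h1 := (flat (A := P) (fun a b => Subtype.ext (h.comm a a.2 b b.2)) (fun _ => (1 : ℂ))
    (fun μ hμ => absurd (hcon μ) hμ)).1 ⟨y, hy⟩ (fun h' => hy1 (congrArg Subtype.val h'))
  exact one_ne_zero h1

/-- restriction of a class function orthogonal to all induced `1 - μ` up to a constant -/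
theorem restrict_flat {ψ : G → ℂ} (hψ : IsIrrCharacter G ψ) (c : ℂ)
    (hc : ∀ μ : P →* ℂˣ, μ ≠ 1 → classInner (indFun P (baseFun μ)) ψ = conj c) :
    (∀ x ∈ P, x ≠ 1 → ψ x = c) ∧
      ∃ b : ℤ, ψ 1 = c + Nat.card P * ((b : ℂ) - c) := by
  classical
  have hfin := h.finite
  have : Fintype P := Fintype.ofFinite P
  have hcomm : ∀ a b : P, a * b = b * a := fun a b => Subtype.ext (h.comm a a.2 b b.2)
  have h1 := flat (A := P) hcomm (fun x : P => ψ x - c) (by
    intro μ hμ
    have h2 := hc μ hμ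
    rw [Cfsg.Agent.S0146.result P (baseFun μ) ψ (isIrr_isClassFunction hψ)] at h2
    have h3 : (fun x : P => ψ x - c) = (fun x : P => ψ x) - c • (fun _ : P => (1 : ℂ)) := by
      funext x; simp
    rw [h3, classInner_sub_right, h2, classInner_smul_right, h.inner_base_one μ hμ, mul_one,
      sub_self])
  have hchar : IsCharacter P (fun x : P => ψ x) :=
    isCharacter_comp P.subtype (isIrr_isCharacter hψ)
  obtain ⟨b, hb⟩ := classInner_isNat hchar isCharacter_one
  refine ⟨fun x hx hx1 => ?_, b, ?_⟩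
  · have := h1.1 ⟨x, hx⟩ (fun h' => hx1 (congrArg Subtype.val h'))
    exact sub_eq_zero.1 this
  · have h2 := h1.2
    have h3 : (fun x : P => ψ x - c) = (fun x : P => ψ x) - c • (1 : P → ℂ) := by
      funext x; simp
    have h4 : classInner (1 : P → ℂ) 1 = 1 := classInner_irr_self isIrr_one
    rw [h3, classInner_sub_left, hb, classInner_smul_left, h4, mul_one] at h2
    have h5 : ψ ((1 : P) : G) = ψ 1 := by rw [Subgroup.coe_one]
    rw [h5] at h2
    rw [Int.cast_natCast]
    linear_combination h2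

/-- A nonprincipal irreducible character of degree not divisible by `|P|` occurs in a pair. -/
theorem exists_pair_of_not_dvd {ψ : G → ℂ} (hψ : IsIrrCharacter G ψ) (hψ1 : ψ ≠ 1) {n : ℕ}
    (hn : ψ 1 = n) (hnd : ¬ Nat.card P ∣ n) :
    ∃ μ α β, IsPair P μ α β ∧ (ψ = α ∨ ψ = β) := by
  by_contra hcon
  push Not at hcon
  apply hnd
  have hz : ∀ μ : P →* ℂˣ, μ ≠ 1 → classInner (indFun P (baseFun μ)) ψ = conj 0 := by
    intro μ hμ
    obtain ⟨α, β, hp⟩ := h.exists_pair μ hμ
    obtain ⟨h1, h2⟩ := hcon μ α β hp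
    rw [hp.eq, classInner_sub_left, classInner_add_left, classInner_irr_ne isIrr_one hψ hψ1.symm,
      classInner_irr_ne hp.irra hψ h1.symm, classInner_irr_ne hp.irrb hψ h2.symm]
    simp
  obtain ⟨-, b, hb⟩ := h.restrict_flat hψ 0 hz
  rw [hn, zero_add, sub_zero] at hb
  have hb' : (n : ℤ) = Nat.card P * b := by exact_mod_cast hb
  exact Int.natCast_dvd_natCast.1 ⟨b, hb'⟩

/-- The common character of all the pairs is `±1` on the nontrivial elements of `P`. -/
theorem values {μ : P →* ℂˣ} {α β : G → ℂ} (hp : IsPair P μ α β) :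
    ((∀ x ∈ P, x ≠ 1 → α x = 1) ∧ ∃ b : ℤ, α 1 = 1 + Nat.card P * (b : ℂ)) ∨
      ((∀ x ∈ P, x ≠ 1 → β x = -1) ∧ ∃ b : ℤ, β 1 = -1 + Nat.card P * (b : ℂ)) := by
  rcases IsPair.common h hp with hc | hc
  · left
    obtain ⟨h1, b, hb⟩ := h.restrict_flat hp.irra 1 (by
      intro ν hν
      obtain ⟨α', β', hq⟩ := h.exists_pair ν hν
      have h1 := hc ν α' β' hq
      subst h1
      rw [hq.eq, classInner_sub_left, classInner_add_left,
        classInner_irr_ne isIrr_one hq.irra hq.a1.symm, classInner_irr_self hq.irra,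
        classInner_irr_ne hq.irrb hq.irra hq.ab.symm]
      simp)
    exact ⟨h1, b - 1, by rw [hb]; push_cast; ring⟩
  · right
    obtain ⟨h1, b, hb⟩ := h.restrict_flat hp.irrb (-1) (by
      intro ν hν
      obtain ⟨α', β', hq⟩ := h.exists_pair ν hν
      have h1 := hc ν α' β' hq
      subst h1
      rw [hq.eq, classInner_sub_left, classInner_add_left,
        classInner_irr_ne isIrr_one hq.irrb hq.b1.symm, classInner_irr_ne hq.irra hq.irrb hq.ab,
        classInner_irr_self hq.irrb]
      simp)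
    exact ⟨h1, b + 1, by rw [hb]; push_cast; ring⟩

omit [Fintype G] in
/-- `λ + λ⁻¹ ≠ 0` for a root of unity of odd order. -/
theorem add_inv_ne_zero (μ : P →* ℂˣ) (x : P) : (μ x : ℂ) + (μ x : ℂ)⁻¹ ≠ 0 := by
  intro h0
  have hfin := h.finite
  have hne : (μ x : ℂ) ≠ 0 := Units.ne_zero _
  have h1 : (μ x : ℂ) ^ 2 = -1 := by
    field_simp at h0
    linear_combination h0
  have h2 : (μ x : ℂ) ^ Nat.card P = 1 := by
    have : (μ x) ^ Nat.card P = 1 := by rw [← map_pow, pow_card_eq_one', map_one]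
    have := congrArg Units.val this
    simpa using this
  have h3 : ((μ x : ℂ) ^ 2) ^ Nat.card P = 1 := by
    rw [← pow_mul, mul_comm, pow_mul, h2, one_pow]
  rw [h1, h.odd.neg_one_pow] at h3
  norm_num at h3

/-- The characters in a pair do not vanish at nontrivial elements of `P`. -/
theorem ne_zero {μ : P →* ℂˣ} {α β : G → ℂ} (hp : IsPair P μ α β) {x : G} (hx : x ∈ P)
    (hx1 : x ≠ 1) : α x ≠ 0 ∧ β x ≠ 0 := by
  have h1 : 2 - (μ ⟨x, hx⟩ : ℂ) - ((μ ⟨x, hx⟩ : ℂ))⁻¹ = 1 + α x - β x := by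
    have h2 := h.ind_of_mem' μ ⟨x, hx⟩
    rw [hp.eq] at h2
    exact h2.symm
  have h3 := h.add_inv_ne_zero μ ⟨x, hx⟩
  rcases h.values hp with ⟨h2, -⟩ | ⟨h2, -⟩
  · refine ⟨by rw [h2 x hx hx1]; norm_num, fun h0 => h3 ?_⟩
    rw [h2 x hx hx1, h0] at h1
    linear_combination -h1
  · refine ⟨fun h0 => h3 ?_, by rw [h2 x hx hx1]; norm_num⟩
    rw [h2 x hx hx1, h0] at h1
    linear_combination -h1

end IsDCC

end Cfsg.Agent.H398.CC
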