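import Mathlib
import Cfsg.Prelude.Def_Characters
import Cfsg.Agent.Characters.Core
import Cfsg.Agent.Characters.Central
import Cfsg.Agent.Characters.ClassMul
import Cfsg.Agent.S0139
import Cfsg.Agent.S0944
import Cfsg.Agent.Blocks.CentralProduct
import Cfsg.Agent.Characters.SchurBound
import Cfsg.Agent.SmallSimple.DihedralNormalizer
import Cfsg.Agent.H398.CC.Char

/-!
# The order formula for simple groups with an abelian CC-subgroup `P` of odd order `m` and
`|N(P)| = 2m`

`|G| = m d (d+1) c²` and `|C(t)| = c (α(1) - α(t))` for an involution `t`, where `d = α(1)` for a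
pair `(α, β)` of characters.
-/

set_option autoImplicit false

namespace Cfsg.Agent.H398.CC

open Subgroup Cfsg Cfsg.Agent.Characters.Core
open scoped ComplexConjugate

universe u

variable {G : Type u} [Group G] {P : Subgroup G}

namespace IsDCC

variable (h : IsDCC P)

include h

/-- A nonabelian simple group has no nonprincipal linear character. -/
theorem one_lt_degree [Finite G] [IsSimpleGroup G] {α : G → ℂ} (hα : IsIrrCharacter G α)
    (hα1 : α ≠ 1) {d : ℕ} (hd : α 1 = d) : 2 ≤ d := by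
  classical
  have := Fintype.ofFinite G
  obtain ⟨d', hd'0, hd'⟩ := isIrr_apply_one hα
  have hdd : d = d' := by
    rw [hd] at hd'; exact_mod_cast hd'
  subst hdd
  by_contra hcon
  have hd1 : d = 1 := by omega
  subst hd1
  obtain ⟨f, hf⟩ := Cfsg.Agent.Characters.Linear.exists_hom_of_isIrrCharacter hα
    (by rw [hd]; simp)
  obtain ⟨y, hy, hy1⟩ := h.exists_ne
  obtain ⟨t, htN, htP⟩ := h.exists_mem_diff
  -- the commutator of `t` and `y` lies in the kernel
  have h1 : t * y * t⁻¹ = y⁻¹ := h.conj_eq_inv htN htP hy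
  have h2 : f (y ^ 2) = 1 := by
    have h3 : f (t * y * t⁻¹) = f y := by
      rw [map_mul, map_mul, map_inv]; exact mul_inv_cancel_comm _ _
    rw [h1, map_inv] at h3
    rw [map_pow, pow_two]
    nth_rewrite 1 [← h3]
    exact inv_mul_cancel _
  have h4 : y ^ 2 = 1 := by
    refine Cfsg.Agent.SmallSimple.DihedralNormalizer.eq_one_of_apply_eq hα hα1 ?_
    rw [hf]
    simp only [h2, map_one]
  exact hy1 (h.sq_ne_one_of_mem hy h4)

/-- Every involution of a simple group `G` is conjugate into `N(P)`. -/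
theorem exists_conj_mem_normalizer [Finite G] [IsSimpleGroup G] {s : G} (hs : orderOf s = 2) :
    ∃ x : G, x⁻¹ * s * x ∈ normalizer (P : Set G) := by
  classical
  have := Fintype.ofFinite G
  by_contra hcon
  push Not at hcon
  have hs2 : s ^ 2 = 1 := hs ▸ pow_orderOf_eq_one s
  obtain ⟨μ, hμ⟩ := h.exists_hom_ne_one
  obtain ⟨α, β, hp⟩ := h.exists_pair μ hμ
  have hval : ∀ a : G, 1 + α (a * s * a⁻¹ * s) - β (a * s * a⁻¹ * s) = 0 := by
    intro a
    rw [sub_eq_zero]
    apply hp.vanish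
    intro x hx
    by_contra hx1
    have ha : (a * s * a⁻¹) ^ 2 = 1 := by
      have : (a * s * a⁻¹) ^ 2 = a * s ^ 2 * a⁻¹ := by rw [pow_two, pow_two]; group
      rw [this, hs2]; group
    exact hcon x (h.conj_mem_normalizer ha hs2 x hx hx1)
  have hsum : ∑ a : G, (1 + α (a * s * a⁻¹ * s) - β (a * s * a⁻¹ * s)) = 0 :=
    Finset.sum_eq_zero fun a _ => hval a
  rw [Finset.sum_sub_distrib, Finset.sum_add_distrib,
    Cfsg.Agent.Characters.Central.sum_char_conj_mul hp.irra,
    Cfsg.Agent.Characters.Central.sum_char_conj_mul hp.irrb, Finset.sum_const, Finset.card_univ,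
    nsmul_eq_mul, mul_one, ← Nat.card_eq_fintype_card] at hsum
  have hβs : 1 + α s = β s := hp.vanish (fun x hx => h.conj_mem_eq_one hs2 x hx)
  have hα0 : α 1 ≠ 0 := isIrr_apply_one_ne_zero hp.irra
  have hβ0 : β 1 ≠ 0 := isIrr_apply_one_ne_zero hp.irrb
  have hG0 : (Nat.card G : ℂ) ≠ 0 := card_ne_zero_complex
  rw [hp.deg] at hβ0 hsum
  rw [← hβs] at hsum
  field_simp at hsum
  have h0 : (α 1 + α s ^ 2) * (α 1 + 1) - α 1 * (1 + α s) ^ 2 = 0 := by
    rw [mul_zero] at hsum
    exact (mul_eq_zero.1 hsum).resolve_left hG0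
  have h1 : (α s - α 1) ^ 2 = 0 := by
    linear_combination h0
  have h2 : α s = α 1 := sub_eq_zero.1 (pow_eq_zero_iff (two_ne_zero) |>.1 h1)
  have h3 := Cfsg.Agent.SmallSimple.DihedralNormalizer.eq_one_of_apply_eq hp.irra hp.a1 h2
  rw [h3, orderOf_one] at hs
  exact absurd hs (by norm_num)

/-- All involutions are conjugate. -/
theorem isConj_of_orderOf_eq_two [Finite G] [IsSimpleGroup G] {s t : G} (hs : orderOf s = 2)
    (ht : orderOf t = 2) : IsConj s t := by
  obtain ⟨x, hx⟩ := h.exists_conj_mem_normalizer hs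
  obtain ⟨y, hy⟩ := h.exists_conj_mem_normalizer ht
  have hord : ∀ (x s : G), orderOf s = 2 → orderOf (x⁻¹ * s * x) = 2 := by
    intro x s hs
    rw [orderOf_conj, hs]
  have h1 := (h.orderOf_eq_two_iff hx).1 (hord x s hs)
  have h2 := (h.orderOf_eq_two_iff hy).1 (hord y t ht)
  have h3 := h.isConj_of_mem hx h1 hy h2
  have h4 : IsConj s (x⁻¹ * s * x) := isConj_iff.2 ⟨x⁻¹, by group⟩
  have h5 : IsConj t (y⁻¹ * t * y) := isConj_iff.2 ⟨y⁻¹, by group⟩
  exact h4.trans (h3.trans h5.symm)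

/-- `|P| |C(t)|² d (d+1) = (α(1) - α(t))² |G|`. -/
theorem sq_eq [Fintype G] [IsSimpleGroup G] {t : G} (ht : orderOf t = 2)
    {μ : P →* ℂˣ} {α β : G → ℂ} (hp : IsPair P μ α β) :
    (Nat.card P : ℂ) * Nat.card (centralizer ({t} : Set G)) ^ 2 * (α 1 * (α 1 + 1)) =
      (α 1 - α t) ^ 2 * Nat.card G := by
  classical
  have hconj : ∀ u : G, IsConj t u ↔ orderOf u = 2 := by
    intro u
    refine ⟨fun h' => ?_, fun h' => h.isConj_of_orderOf_eq_two ht h'⟩
    obtain ⟨c, hc⟩ := isConj_iff.1 h'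
    rw [← hc, ← ht]
    have := orderOf_conj c⁻¹ t
    rwa [inv_inv] at this
  have hsumG : ∑ g : G, (1 + α g - β g) = Nat.card G := by
    have h1 := h.inner_one μ hp.ne
    rw [hp.eq, classInner_def] at h1
    simp only [Pi.add_apply, Pi.sub_apply, Pi.one_apply, map_one, mul_one] at h1
    have h2 := congrArg (fun z => (Nat.card G : ℂ) * z) h1
    simp only [mul_one] at h2
    rw [← mul_assoc, mul_inv_cancel₀ card_ne_zero_complex, one_mul] at h2
    exact h2
  set F : G → ℂ := fun g => 1 + α g - β g with hF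
  set K : Finset G := Finset.univ.filter (IsConj t) with hK
  have hidx : ((centralizer ({t} : Set G)).index : ℂ) = K.card := by
    rw [Cfsg.Agent.Characters.ClassMul.card_filter_isConj]
  -- first evaluation
  have hfirst : ∑ v ∈ K, ∑ u ∈ K, F (u * v) =
      (K.card : ℂ) ^ 2 * (1 + α t * α t / α 1 - β t * β t / β 1) := by
    have h1 : ∀ v ∈ K, ∑ u ∈ K, F (u * v) =
        (K.card : ℂ) * (1 + α t * α t / α 1 - β t * β t / β 1) := by
      intro v hvK
      have hvt : IsConj t v := (Finset.mem_filter.1 hvK).2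
      simp only [hF]
      rw [Finset.sum_sub_distrib, Finset.sum_add_distrib,
        Cfsg.Agent.Characters.ClassMul.sum_class_char_mul hp.irra,
        Cfsg.Agent.Characters.ClassMul.sum_class_char_mul hp.irrb, hidx,
        ← classFunction_apply_eq (isIrr_isClassFunction hp.irra) hvt,
        ← classFunction_apply_eq (isIrr_isClassFunction hp.irrb) hvt, Finset.sum_const,
        nsmul_eq_mul]
      ring
    rw [Finset.sum_congr rfl h1, Finset.sum_const, nsmul_eq_mul]
    ring
  -- second evaluation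
  have hsecond : ∑ v ∈ K, ∑ u ∈ K, F (u * v) = Nat.card P * Nat.card G := by
    have h1 : ∀ v ∈ K, ∑ u ∈ K, F (u * v) = ∑ x : G, if x * v⁻¹ ∈ K then F x else 0 := by
      intro v _
      rw [← Finset.sum_filter]
      refine Finset.sum_bij' (fun u _ => u * v) (fun x _ => x * v⁻¹) ?_ ?_ ?_ ?_ ?_
      · intro u hu
        rw [Finset.mem_filter]
        exact ⟨Finset.mem_univ _, by rwa [mul_inv_cancel_right]⟩
      · intro x hx
        exact (Finset.mem_filter.1 hx).2
      · intro u _; exact mul_inv_cancel_right u v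
      · intro x _; exact inv_mul_cancel_right x v
      · intro u _; rfl
    rw [Finset.sum_congr rfl h1, Finset.sum_comm, ← hsumG, Finset.mul_sum]
    refine Finset.sum_congr rfl fun x _ => ?_
    rw [← Finset.sum_filter, Finset.sum_const, nsmul_eq_mul]
    by_cases hx : ∀ g : G, g⁻¹ * x * g ∈ P → g⁻¹ * x * g = 1
    · have hFx : F x = 0 := by
        simp only [hF]
        rw [hp.vanish hx, sub_self]
      rw [hFx, mul_zero]
      simp only [hF] at hFx
      rw [hFx, mul_zero]
    · push Not at hx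
      obtain ⟨g, hg, hg1⟩ := hx
      have h2 := h.card_inverting hg hg1
      rw [Nat.card_eq_fintype_card, Fintype.card_subtype] at h2
      have h3 : Finset.filter (fun v => x * v⁻¹ ∈ K) K =
          Finset.univ.filter (fun v => orderOf v = 2 ∧ orderOf (x * v⁻¹) = 2) := by
        ext v
        simp only [hK, Finset.mem_filter, Finset.mem_univ, true_and, hconj]
      rw [h3, h2]
  have ht2 : t ^ 2 = 1 := ht ▸ pow_orderOf_eq_one t
  have hβt : 1 + α t = β t := hp.vanish (fun x hx => h.conj_mem_eq_one ht2 x hx)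
  have hα0 : α 1 ≠ 0 := isIrr_apply_one_ne_zero hp.irra
  have hβ0 : β 1 ≠ 0 := isIrr_apply_one_ne_zero hp.irrb
  have hG0 : (Nat.card G : ℂ) ≠ 0 := card_ne_zero_complex
  rw [hfirst, hp.deg, ← hβt, ← hidx] at hsecond
  rw [hp.deg] at hβ0
  have hidx2 : (Nat.card (centralizer ({t} : Set G)) : ℂ) * (centralizer ({t} : Set G)).index =
      Nat.card G := by exact_mod_cast card_mul_index _
  set k : ℂ := (Nat.card (centralizer ({t} : Set G)) : ℂ) with hk
  set I : ℂ := ((centralizer ({t} : Set G)).index : ℂ) with hI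
  set m : ℂ := (Nat.card P : ℂ) with hm
  have hI0 : I ≠ 0 := by
    intro h0; rw [h0, mul_zero] at hidx2; exact hG0 hidx2.symm
  rw [← hidx2] at hsecond ⊢
  field_simp at hsecond
  linear_combination (-k) * hsecond

/-- The order formula. -/
theorem data [Fintype G] [IsSimpleGroup G] {t : G} (ht : orderOf t = 2)
    {μ : P →* ℂˣ} {α β : G → ℂ} (hp : IsPair P μ α β) {d : ℕ} (hd : α 1 = d) :
    2 ≤ d ∧ (d ≡ 1 [MOD Nat.card P] ∨ d + 2 ≡ 0 [MOD Nat.card P]) ∧
    Nat.Coprime (Nat.card P) (d * (d + 1)) ∧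
    ∃ c ρ : ℕ, 0 < c ∧ 0 < ρ ∧ ρ ≤ 2 * d ∧
      Nat.card G = Nat.card P * (d * (d + 1)) * c ^ 2 ∧
      Nat.card (centralizer ({t} : Set G)) = c * ρ ∧
      (ρ : ℂ) = α 1 - α t ∧ (ρ : ℂ) = β 1 - β t := by
  classical
  have hd2 : 2 ≤ d := h.one_lt_degree hp.irra hp.a1 hd
  have hm1 := h.one_lt
  have hmodd := h.odd
  have hmod : d ≡ 1 [MOD Nat.card P] ∨ d + 2 ≡ 0 [MOD Nat.card P] := by
    rcases h.values hp with ⟨-, b, hb⟩ | ⟨-, b, hb⟩
    · left
      rw [hd] at hb
      have hb' : (d : ℤ) = 1 + Nat.card P * b := by exact_mod_cast hb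
      rw [← Int.natCast_modEq_iff, hb']
      simp [Int.ModEq]
    · right
      rw [hp.deg, hd] at hb
      have hb' : (d : ℤ) + 1 = -1 + Nat.card P * b := by exact_mod_cast hb
      rw [← Int.natCast_modEq_iff]
      have : ((d + 2 : ℕ) : ℤ) = Nat.card P * b := by push_cast; linarith
      rw [this]
      simp [Int.ModEq]
  have hcop : Nat.Coprime (Nat.card P) (d * (d + 1)) := by
    apply Nat.Coprime.mul_right
    · rcases hmod with h1 | h1
      · have := h1.gcd_eq
        rw [Nat.gcd_one_left] at this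
        rw [Nat.Coprime, Nat.gcd_comm]; exact this
      · have h2 : Nat.Coprime (Nat.card P) (d + 2 - d) := by
          rw [Nat.add_sub_cancel_left]; exact hmodd.coprime_two_right
        have h3 : Nat.card P ∣ d + 2 := (Nat.modEq_zero_iff_dvd).1 h1
        apply Nat.coprime_of_dvd
        intro q hq hqP hqd
        have h4 : q ∣ 2 := by
          have := (Nat.dvd_add_right hqd).1 (hqP.trans h3)
          exact this
        have h5 : q ∣ 1 := by
          rw [← hmodd.coprime_two_right]; exact Nat.dvd_gcd hqP h4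
        exact hq.one_lt.ne' (Nat.dvd_one.1 h5)
    · apply Nat.coprime_of_dvd
      intro q hq hqP hqd
      rcases hmod with h1 | h1
      · have h2 : d + 1 ≡ 2 [MOD q] := (h1.of_dvd hqP).add_right 1
        have h3 : q ∣ 2 := (Nat.modEq_zero_iff_dvd).1 (h2.symm.trans ((Nat.modEq_zero_iff_dvd).2 hqd))
        have h5 : q ∣ 1 := by
          rw [← hmodd.coprime_two_right]; exact Nat.dvd_gcd hqP h3
        exact hq.one_lt.ne' (Nat.dvd_one.1 h5)
      · have h3 : q ∣ d + 1 + 1 := hqP.trans ((Nat.modEq_zero_iff_dvd).1 h1)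
        exact hq.one_lt.ne' (Nat.dvd_one.1 ((Nat.dvd_add_right hqd).1 h3))
  refine ⟨hd2, hmod, hcop, ?_⟩
  obtain ⟨a, ha, ha2⟩ := Cfsg.Agent.S0944.result (⟨α, hp.irra⟩ : IrrCharacter G) t ht
  have ha' : α t = (a : ℂ) := ha
  have ht2 : t ^ 2 = 1 := ht ▸ pow_orderOf_eq_one t
  have hβt : 1 + α t = β t := hp.vanish (fun x hx => h.conj_mem_eq_one ht2 x hx)
  have hsq := h.sq_eq ht hp
  rw [hd, ha'] at hsq
  set k := Nat.card (centralizer ({t} : Set G)) with hk
  set m := Nat.card P with hm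
  have hsq' : (m : ℤ) * k ^ 2 * (d * (d + 1)) = (d - a) ^ 2 * Nat.card G := by exact_mod_cast hsq
  -- the degrees divide the order
  have hd1 : d ∣ Nat.card G := Cfsg.Agent.Blocks.CentralProduct.degree_dvd_card hp.irra hd
  have hd1' : d + 1 ∣ Nat.card G := Cfsg.Agent.Blocks.CentralProduct.degree_dvd_card hp.irrb
    (by rw [hp.deg, hd]; push_cast; ring)
  have hdd : d * (d + 1) ∣ Nat.card G :=
    Nat.Coprime.mul_dvd_of_dvd_of_dvd (by simp) hd1 hd1'
  have hmd : m * (d * (d + 1)) ∣ Nat.card G :=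
    Nat.Coprime.mul_dvd_of_dvd_of_dvd hcop (card_subgroup_dvd_card P) hdd
  obtain ⟨C, hC⟩ := hmd
  -- `k² = (d - a)² C`
  have hd0 : (0 : ℤ) < d := by exact_mod_cast (by omega : 0 < d)
  have hm0 : (0 : ℤ) < m := by exact_mod_cast h.card_pos
  have hk2 : (k : ℤ) ^ 2 = (d - a) ^ 2 * C := by
    have h1 : (m : ℤ) * (d * (d + 1)) * k ^ 2 = m * (d * (d + 1)) * ((d - a) ^ 2 * C) := by
      have h2 : (Nat.card G : ℤ) = m * (d * (d + 1)) * C := by exact_mod_cast hC
      rw [h2] at hsq'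
      linear_combination hsq'
    exact mul_left_cancel₀ (by positivity) h1
  have hkpos : 0 < k := Nat.card_pos
  have hda : (d : ℤ) - a ≠ 0 := by
    intro h0
    rw [h0] at hk2
    have : (0 : ℤ) < k ^ 2 := by positivity
    rw [hk2] at this
    simp at this
  -- so `(d - a) ∣ k`
  obtain ⟨c, hc⟩ : ((d : ℤ) - a) ∣ k := by
    rw [← Int.pow_dvd_pow_iff two_ne_zero]
    exact ⟨C, hk2⟩
  have hCc : (C : ℤ) = c ^ 2 := by
    rw [hc] at hk2
    have h1 : ((d : ℤ) - a) ^ 2 * C = (d - a) ^ 2 * c ^ 2 := by rw [← hk2]; ring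
    exact mul_left_cancel₀ (pow_ne_zero 2 hda) h1
  -- bound on `a`
  have habs : |a| ≤ d := by
    have h1 : ‖α t‖ ≤ d :=
      Cfsg.Agent.Characters.SchurBound.norm_le (isIrr_isCharacter hp.irra) hd t
    rw [ha'] at h1
    have h3 : |(a : ℝ)| ≤ d := by
      simpa using h1
    exact_mod_cast h3
  have hda_pos : (0 : ℤ) < d - a := by
    have := (abs_le.1 habs).2
    omega
  have hcpos : 0 < c := by
    have h1 : (0 : ℤ) < (d - a) * c := by rw [← hc]; exact_mod_cast hkpos
    exact (pos_iff_pos_of_mul_pos h1).1 hda_pos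
  lift c to ℕ using hcpos.le
  obtain ⟨ρ, hρ⟩ : ∃ ρ : ℕ, ((d : ℤ) - a) = ρ := ⟨((d : ℤ) - a).toNat, by
    rw [Int.toNat_of_nonneg hda_pos.le]⟩
  have hρC : (ρ : ℂ) = (d : ℂ) - a := by
    have : ((ρ : ℤ) : ℂ) = ((d - a : ℤ) : ℂ) := by rw [hρ]
    push_cast at this
    exact this
  refine ⟨c, ρ, by exact_mod_cast hcpos, ?_, ?_, ?_, ?_, ?_, ?_⟩
  · rw [hρ] at hda_pos; exact_mod_cast hda_pos
  · have h1 := (abs_le.1 habs).1
    have : (ρ : ℤ) ≤ 2 * d := by rw [← hρ]; linarith
    exact_mod_cast this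
  · rw [hC]
    have : C = c ^ 2 := by exact_mod_cast hCc
    rw [this]
  · rw [hρ] at hc
    have : (k : ℤ) = ((c * ρ : ℕ) : ℤ) := by rw [hc]; push_cast; ring
    exact_mod_cast this
  · rw [hd, ha', hρC]
  · rw [hp.deg, ← hβt, hd, ha', hρC]
    ring

end IsDCC

end Cfsg.Agent.H398.CC
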