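import Mathlib
import Cfsg.Agent.H398.CC.Group

/-!
# `N(P)` is not maximal in `PSL₃(4)`, `|P| = 5`
-/

set_option autoImplicit false

namespace Cfsg.Agent.H398.CC

open Subgroup
open scoped LinearAlgebra.Projectivization

universe u

variable {G : Type u} [Group G] {P : Subgroup G}

theorem smul_smul_eq {X : Type*} [MulAction G X] {z n : G} {x : X} (h4 : (n⁻¹ * z * n) • x = x) :
    z • n • x = n • x := by
  have := congrArg (n • ·) h4
  simpa [mul_smul] using this

/-- `N(P)` fixes a point if `|N(P)| = 2p`, `P` a Sylow subgroup of prime order `p`, and the number of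
points is `1` modulo `p`. -/
theorem exists_fixed [Finite G] {p : ℕ} (hp : p.Prime) (hp2 : 3 ≤ p) (hP : Nat.card P = p)
    (hsq : ¬ p * p ∣ Nat.card G) (hN : Nat.card (normalizer (P : Set G)) = 2 * p)
    {X : Type*} [Finite X] [MulAction G X] [MulAction.IsPretransitive G X]
    (hX : Nat.card X ≡ 1 [MOD p]) :
    ∃ x : X, normalizer (P : Set G) ≤ MulAction.stabilizer G x := by
  classical
  have := Fact.mk hp
  have hPG : IsPGroup p P := IsPGroup.of_card (n := 1) (by rw [hP, pow_one])
  have h1 := hPG.card_modEq_card_fixedPoints X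
  have hfix : Nat.card (MulAction.fixedPoints P X) ≡ 1 [MOD p] := h1.symm.trans hX
  -- the normalizer acts transitively on the fixed points of `P`
  have htr : ∀ x ∈ MulAction.fixedPoints P X, ∀ y ∈ MulAction.fixedPoints P X,
      ∃ n ∈ normalizer (P : Set G), n • x = y := by
    intro x hx y hy
    obtain ⟨g, hg⟩ := MulAction.exists_smul_eq G x y
    set S := MulAction.stabilizer G x with hS
    have hPS : P ≤ S := fun z hz => by
      rw [hS, MulAction.mem_stabilizer_iff]; exact hx ⟨z, hz⟩
    have hPS' : P.map (MulAut.conj g⁻¹).toMonoidHom ≤ S := by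
      rintro _ ⟨z, hz, rfl⟩
      rw [hS, MulAction.mem_stabilizer_iff]
      change (g⁻¹ * z * g⁻¹⁻¹) • x = x
      have h2 : z • y = y := hy ⟨z, hz⟩
      rw [inv_inv, mul_smul, mul_smul, hg, h2, ← hg, inv_smul_smul]
    have hv : (Nat.card S).factorization p = 1 := by
      have h3 : p ∣ Nat.card S := by
        rw [← hP]; exact Subgroup.card_dvd_of_le hPS
      have h4 : ¬ p ^ 2 ∣ Nat.card S := by
        intro h5
        apply hsq
        rw [← pow_two]
        exact h5.trans (card_subgroup_dvd_card S)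
      have h5 : 1 ≤ (Nat.card S).factorization p :=
        (hp.dvd_iff_one_le_factorization Nat.card_pos.ne').1 h3
      have h6 : ¬ 2 ≤ (Nat.card S).factorization p := by
        rw [← hp.pow_dvd_iff_le_factorization Nat.card_pos.ne']
        exact h4
      omega
    have hc1 : Nat.card (P.subgroupOf S) = p ^ (Nat.card S).factorization p := by
      rw [hv, pow_one, ← hP]
      exact Nat.card_congr (subgroupOfEquivOfLe hPS).toEquiv
    have hc2 : Nat.card ((P.map (MulAut.conj g⁻¹).toMonoidHom).subgroupOf S) =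
        p ^ (Nat.card S).factorization p := by
      rw [hv, pow_one, ← hP, Nat.card_congr (subgroupOfEquivOfLe hPS').toEquiv]
      exact (Nat.card_congr (P.equivMapOfInjective _ (MulAut.conj g⁻¹).injective).toEquiv).symm
    obtain ⟨k, hk⟩ := MulAction.exists_smul_eq S (Sylow.ofCard _ hc2) (Sylow.ofCard _ hc1)
    have hmem : ∀ z ∈ P, (k : G) * (g⁻¹ * z * g) * (k : G)⁻¹ ∈ P := by
      intro z hz
      have hz1 : g⁻¹ * z * g ∈ P.map (MulAut.conj g⁻¹).toMonoidHom :=
        ⟨z, hz, by change g⁻¹ * z * g⁻¹⁻¹ = _; rw [inv_inv]⟩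
      have hz2 : (⟨g⁻¹ * z * g, hPS' hz1⟩ : S) ∈ (Sylow.ofCard _ hc2 : Sylow p S) := hz1
      have hz3 : k * (⟨g⁻¹ * z * g, hPS' hz1⟩ : S) * k⁻¹ ∈
          (k • (Sylow.ofCard _ hc2 : Sylow p S) : Sylow p S) := by
        rw [Sylow.smul_def]
        exact Subgroup.smul_mem_pointwise_smul _ (MulAut.conj k) _ hz2
      rw [hk] at hz3
      exact hz3
    refine ⟨((k : G) * g⁻¹)⁻¹, inv_mem ?_, ?_⟩
    · -- finite: conjugation maps `P` into `P`
      have hle : P.map (MulAut.conj ((k : G) * g⁻¹)).toMonoidHom ≤ P := by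
        rintro _ ⟨z, hz, rfl⟩
        change ((k : G) * g⁻¹) * z * ((k : G) * g⁻¹)⁻¹ ∈ P
        have := hmem z hz
        have e : ((k : G) * g⁻¹) * z * ((k : G) * g⁻¹)⁻¹ = (k : G) * (g⁻¹ * z * g) * (k : G)⁻¹ := by
          group
        rw [e]; exact this
      have heq : P.map (MulAut.conj ((k : G) * g⁻¹)).toMonoidHom = P := by
        apply Subgroup.eq_of_le_of_card_ge hle
        rw [← Nat.card_congr (P.equivMapOfInjective _ (MulAut.conj ((k : G) * g⁻¹)).injective).toEquiv]
      rw [mem_normalizer_iff]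
      intro z
      constructor
      · intro hz
        exact hle ⟨z, hz, rfl⟩
      · intro hz
        have hz' : (k : G) * g⁻¹ * z * ((k : G) * g⁻¹)⁻¹ ∈
            P.map (MulAut.conj ((k : G) * g⁻¹)).toMonoidHom := by rw [heq]; exact hz
        obtain ⟨w, hw, hw2⟩ := hz'
        have : w = z := by
          have h9 : (k : G) * g⁻¹ * w * ((k : G) * g⁻¹)⁻¹ = (k : G) * g⁻¹ * z * ((k : G) * g⁻¹)⁻¹ := hw2
          exact mul_left_cancel (mul_right_cancel h9)
        rwa [← this]
    · have hk2 : (k : G) • x = x := k.2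
      have hk3 : (k : G)⁻¹ • x = x := by rw [inv_smul_eq_iff, hk2]
      rw [mul_inv_rev, inv_inv, mul_smul, hk3, hg]
  -- a fixed point
  obtain ⟨x, hx⟩ : ∃ x, x ∈ MulAction.fixedPoints P X := by
    by_contra hcon
    push Not at hcon
    have : Nat.card (MulAction.fixedPoints P X) = 0 := by
      rw [Nat.card_eq_zero]
      exact Or.inl ⟨fun x => hcon x.1 x.2⟩
    rw [this] at hfix
    have h3 := (Nat.modEq_iff_dvd' (by norm_num)).1 hfix
    have h4 := Nat.le_of_dvd (by norm_num) h3
    omega
  -- the number of fixed points is at most two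
  set N := normalizer (P : Set G) with hNdef
  have hle2 : Nat.card (MulAction.fixedPoints P X) ≤ 2 := by
    -- the map `N → Fix`, `n ↦ n • x` is constant on cosets of `P`
    have hPN : P ≤ N := le_normalizer
    have hidx : (P.subgroupOf N).index = 2 := by
      have h3 := (P.subgroupOf N).card_mul_index
      rw [hN, Nat.card_congr (subgroupOfEquivOfLe hPN).toEquiv, hP, mul_comm 2 p] at h3
      exact Nat.eq_of_mul_eq_mul_left hp.pos h3
    have hmem : ∀ n : N, (n : G) • x ∈ MulAction.fixedPoints P X := by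
      intro n z
      have h3 : (n : G)⁻¹ * z * (n : G) ∈ P := by
        have := (mem_normalizer_iff.1 (inv_mem n.2) (z : G)).1 z.2
        rwa [inv_inv] at this
      have h4 : ((n : G)⁻¹ * z * (n : G)) • x = x := hx ⟨_, h3⟩
      exact smul_smul_eq h4
    let φ : N ⧸ (P.subgroupOf N) → MulAction.fixedPoints P X :=
      Quotient.lift (fun n : N => (⟨(n : G) • x, hmem n⟩ : MulAction.fixedPoints P X)) (by
        intro a b hab
        have hab' : a⁻¹ * b ∈ P.subgroupOf N := QuotientGroup.leftRel_apply.1 hab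
        have h3 : (a : G)⁻¹ * (b : G) ∈ P := hab'
        have h4 : ((a : G)⁻¹ * (b : G)) • x = x := hx ⟨_, h3⟩
        apply Subtype.ext
        change (a : G) • x = (b : G) • x
        rw [mul_smul, inv_smul_eq_iff] at h4
        exact h4.symm)
    have hφ : Function.Surjective φ := by
      rintro ⟨y, hy⟩
      obtain ⟨n, hn, hny⟩ := htr x hx y hy
      exact ⟨Quotient.mk _ ⟨n, hn⟩, Subtype.ext hny⟩
    have h3 := Nat.card_le_card_of_surjective φ hφ
    have h4 : Nat.card (N ⧸ (P.subgroupOf N)) = 2 := hidx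
    omega
  have hone : Nat.card (MulAction.fixedPoints P X) = 1 := by
    have h3 : Nat.card (MulAction.fixedPoints P X) % p = 1 % p := hfix
    rw [Nat.mod_eq_of_lt (by omega), Nat.mod_eq_of_lt (by omega)] at h3
    exact h3
  refine ⟨x, fun n hn => ?_⟩
  rw [MulAction.mem_stabilizer_iff]
  have hnx : n • x ∈ MulAction.fixedPoints P X := by
    intro z
    have h3 : n⁻¹ * z * n ∈ P := by
      have := (mem_normalizer_iff.1 (inv_mem hn) (z : G)).1 z.2
      rwa [inv_inv] at this
    have h4 : (n⁻¹ * z * n) • x = x := hx ⟨_, h3⟩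
    exact smul_smul_eq h4
  rw [Nat.card_eq_one_iff_unique] at hone
  have := hone.1
  exact congrArg Subtype.val (Subsingleton.elim (⟨n • x, hnx⟩ : MulAction.fixedPoints P X) ⟨x, hx⟩)

/-- `N(P)` is not a maximal subgroup of `PSL₃(4)` for `|P| = 5`. -/
theorem IsDCC.false_of_psl34 [Finite G] (h : IsDCC P) (hP : Nat.card P = 5)
    (hcard : Nat.card G = 20160) (hmax : IsCoatom (normalizer (P : Set G)))
    {F : Type*} [Field F] [Fintype F] (hF : Fintype.card F = 4)
    (e : G ≃* Matrix.ProjectiveSpecialLinearGroup (Fin 3) F) : False := by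
  classical
  let act : MulAction G (ℙ F (Fin 3 → F)) := MulAction.compHom _ e.toMonoidHom
  have htrans : MulAction.IsPretransitive G (ℙ F (Fin 3 → F)) := ⟨fun x y => by
    obtain ⟨g, hg⟩ := MulAction.exists_smul_eq (Matrix.ProjectiveSpecialLinearGroup (Fin 3) F) x y
    refine ⟨e.symm g, ?_⟩
    change e (e.symm g) • x = y
    rw [e.apply_symm_apply, hg]⟩
  have hX : Nat.card (ℙ F (Fin 3 → F)) = 21 := by
    rw [Projectivization.card_of_finrank F (Fin 3 → F) (n := 3) (by simp)]
    rw [Nat.card_eq_fintype_card, hF]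
    decide
  have hfin : Finite (ℙ F (Fin 3 → F)) := Nat.finite_of_card_ne_zero (by rw [hX]; norm_num)
  obtain ⟨x, hx⟩ := exists_fixed (P := P) (X := ℙ F (Fin 3 → F)) (by norm_num : Nat.Prime 5)
    (by norm_num) hP (by rw [hcard]; norm_num) (by rw [h.cardN, hP]) (by rw [hX]; decide)
  have hidx : (MulAction.stabilizer G x).index = 21 := by
    rw [MulAction.index_stabilizer_of_transitive, hX]
  have hne : MulAction.stabilizer G x ≠ ⊤ := by
    intro h0
    rw [h0, index_top] at hidx
    exact absurd hidx (by norm_num)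
  have heq : normalizer (P : Set G) = MulAction.stabilizer G x := by
    rcases eq_or_lt_of_le hx with h1 | h1
    · exact h1
    · exact absurd (hmax.2 _ h1) hne
  have h1 := (normalizer (P : Set G)).card_mul_index
  rw [heq, hidx, ← heq, h.cardN, hP, hcard] at h1
  norm_num at h1

end Cfsg.Agent.H398.CC
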