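import Mathlib
import Cfsg.Agent.H398.CC.Small

/-!
# Numerical consequences for `PSL₃(q)` and `PSU₃(q)`, `q` even
-/

set_option autoImplicit false

namespace Cfsg.Agent.H398.CC.Arith

theorem sq_of_coprime {a b c : ℕ} (h : Nat.Coprime a b) (he : a * b = c ^ 2) :
    ∃ x, a = x ^ 2 :=
  exists_eq_pow_of_mul_eq_pow (by rw [gcd_eq_nat_gcd, Nat.isUnit_iff]; exact h) he

theorem sq_mod_four (a : ℕ) : a ^ 2 % 4 = 0 ∨ a ^ 2 % 4 = 1 := by
  have h : a % 4 = 0 ∨ a % 4 = 1 ∨ a % 4 = 2 ∨ a % 4 = 3 := by omega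
  rw [Nat.pow_mod]
  rcases h with h | h | h | h <;> rw [h] <;> norm_num

theorem sq_mod_eight (a : ℕ) : a ^ 2 % 8 = 0 ∨ a ^ 2 % 8 = 1 ∨ a ^ 2 % 8 = 4 := by
  have h : a % 8 = 0 ∨ a % 8 = 1 ∨ a % 8 = 2 ∨ a % 8 = 3 ∨ a % 8 = 4 ∨ a % 8 = 5 ∨ a % 8 = 6 ∨
    a % 8 = 7 := by omega
  rw [Nat.pow_mod]
  rcases h with h | h | h | h | h | h | h | h <;> rw [h] <;> norm_num

theorem two_pow_mod {f : ℕ} (hf : 3 ≤ f) : 2 ^ f % 8 = 0 := by
  obtain ⟨k, rfl⟩ : ∃ k, f = k + 3 := ⟨f - 3, by omega⟩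
  rw [pow_add]; omega

/-- `PSL₃(q)`, `q` even. -/
theorem psl3_even {q m g c f : ℕ} (hq : q = 2 ^ f) (hf : 0 < f) (hg : g = Nat.gcd 3 (q - 1))
    (h : m * (g * c ^ 2) = q ^ 2 - 1) (hcop : Nat.Coprime m (q ^ 3 - 1)) :
    q = 2 ∨ (q = 4 ∧ m = 5) := by
  have hq2 : 2 ≤ q := by
    rw [hq]; exact (Nat.pow_le_pow_right (by norm_num) hf : 2 ^ 1 ≤ 2 ^ f)
  have heven : q % 2 = 0 := by
    rw [hq]
    obtain ⟨k, rfl⟩ : ∃ k, f = k + 1 := ⟨f - 1, by omega⟩
    rw [pow_succ]; omega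
  have h1 : q ^ 2 - 1 = (q + 1) * (q - 1) := by
    have := Nat.sq_sub_sq q 1
    simpa using this
  have h2 : (q - 1) ∣ q ^ 3 - 1 := by
    have := Nat.sub_one_dvd_pow_sub_one q 3
    exact this
  have h3 : Nat.Coprime m (q - 1) := Nat.Coprime.coprime_dvd_right h2 hcop
  have hg1 : g ∣ q - 1 := hg ▸ Nat.gcd_dvd_right _ _
  obtain ⟨u, hu⟩ := hg1
  have hgpos : 0 < g := by
    rw [hg]; exact Nat.gcd_pos_of_pos_left _ (by norm_num)
  have hm : m ∣ q + 1 := by
    apply h3.dvd_of_dvd_mul_right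
    rw [← h1, ← h]; exact Dvd.intro _ rfl
  obtain ⟨s, hs⟩ := hm
  have hm0 : 0 < m := by
    rcases Nat.eq_zero_or_pos m with h0 | h0
    · rw [h0, zero_mul] at hs; omega
    · exact h0
  have h4 : u * s = c ^ 2 := by
    have h5 : m * g * (c ^ 2) = m * g * (u * s) := by
      calc m * g * c ^ 2 = m * (g * c ^ 2) := by ring
        _ = (q + 1) * (q - 1) := by rw [h, h1]
        _ = (m * s) * (g * u) := by rw [hs, hu]
        _ = m * g * (u * s) := by ring
    exact (Nat.eq_of_mul_eq_mul_left (Nat.mul_pos hm0 hgpos) h5).symm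
  have hcop2 : Nat.Coprime (q - 1) (q + 1) := by
    have h6 : q + 1 = (q - 1) + 2 := by omega
    rw [h6, Nat.coprime_self_add_right]
    rw [Nat.coprime_two_right]
    rw [Nat.odd_iff]; omega
  have hus : Nat.Coprime u s := by
    apply Nat.Coprime.coprime_dvd_left (⟨g, by rw [hu]; ring⟩ : u ∣ q - 1)
    exact Nat.Coprime.coprime_dvd_right (⟨m, by rw [hs]; ring⟩ : s ∣ q + 1) hcop2
  obtain ⟨x, hx⟩ := sq_of_coprime hus h4
  rw [hx] at hu
  have hg13 : g = 1 ∨ g = 3 := (Nat.dvd_prime Nat.prime_three).1 (hg ▸ Nat.gcd_dvd_left 3 (q - 1))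
  rcases Nat.lt_or_ge f 3 with h3f | h3f
  · interval_cases f
    · left; exact hq
    · right
      have hq4 : q = 4 := hq
      subst hq4
      refine ⟨rfl, ?_⟩
      have hg3 : g = 3 := by rw [hg]; decide
      subst hg3
      norm_num at h
      have hm1 : m ∣ 5 := ⟨c ^ 2, by
        have : 3 * (m * c ^ 2) = 3 * 5 := by linear_combination h
        exact (Nat.eq_of_mul_eq_mul_left (by norm_num) this).symm⟩
      rcases (Nat.dvd_prime (by norm_num)).1 hm1 with h5 | h5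
      · exfalso
        subst h5
        have : c ^ 2 = 5 := by omega
        have h7 := sq_mod_eight c
        omega
      · exact h5
  · exfalso
    have h8 : q % 8 = 0 := by rw [hq]; exact two_pow_mod h3f
    have h9 := sq_mod_eight x
    rcases hg13 with h5 | h5
    · rw [h5, one_mul] at hu
      omega
    · rw [h5] at hu
      omega

/-- `PSU₃(q)`, `q` even. -/
theorem psu3_even {q m g c f : ℕ} (hq : q = 2 ^ f) (hf : 0 < f) (hg : g = Nat.gcd 3 (q + 1))
    (h : m * (g * c ^ 2) = q ^ 2 - 1) (hcop : Nat.Coprime m (q ^ 3 + 1)) : q = 2 := by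
  have hq2 : 2 ≤ q := by
    rw [hq]; exact (Nat.pow_le_pow_right (by norm_num) hf : 2 ^ 1 ≤ 2 ^ f)
  have heven : q % 2 = 0 := by
    rw [hq]
    obtain ⟨k, rfl⟩ : ∃ k, f = k + 1 := ⟨f - 1, by omega⟩
    rw [pow_succ]; omega
  have h1 : q ^ 2 - 1 = (q + 1) * (q - 1) := by
    have := Nat.sq_sub_sq q 1
    simpa using this
  have h2 : (q + 1) ∣ q ^ 3 + 1 := by
    have := Odd.nat_add_dvd_pow_add_pow q 1 (show Odd 3 by decide)
    simpa using this
  have h3 : Nat.Coprime m (q + 1) := Nat.Coprime.coprime_dvd_right h2 hcop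
  have hg1 : g ∣ q + 1 := hg ▸ Nat.gcd_dvd_right _ _
  obtain ⟨u, hu⟩ := hg1
  have hgpos : 0 < g := by
    rw [hg]; exact Nat.gcd_pos_of_pos_left _ (by norm_num)
  have hm : m ∣ q - 1 := by
    apply h3.dvd_of_dvd_mul_left
    rw [← h1, ← h]; exact Dvd.intro _ rfl
  obtain ⟨s, hs⟩ := hm
  have hm0 : 0 < m := by
    rcases Nat.eq_zero_or_pos m with h0 | h0
    · rw [h0, zero_mul] at hs; omega
    · exact h0
  have h4 : u * s = c ^ 2 := by
    have h5 : m * g * (c ^ 2) = m * g * (u * s) := by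
      calc m * g * c ^ 2 = m * (g * c ^ 2) := by ring
        _ = (q + 1) * (q - 1) := by rw [h, h1]
        _ = (g * u) * (m * s) := by rw [hs, hu]
        _ = m * g * (u * s) := by ring
    exact (Nat.eq_of_mul_eq_mul_left (Nat.mul_pos hm0 hgpos) h5).symm
  have hcop2 : Nat.Coprime (q + 1) (q - 1) := by
    have h6 : q + 1 = (q - 1) + 2 := by omega
    rw [h6, Nat.coprime_comm, Nat.coprime_self_add_right]
    rw [Nat.coprime_two_right]
    rw [Nat.odd_iff]; omega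
  have hus : Nat.Coprime u s := by
    apply Nat.Coprime.coprime_dvd_left (⟨g, by rw [hu]; ring⟩ : u ∣ q + 1)
    exact Nat.Coprime.coprime_dvd_right (⟨m, by rw [hs]; ring⟩ : s ∣ q - 1) hcop2
  obtain ⟨x, hx⟩ := sq_of_coprime hus h4
  rw [hx] at hu
  have hg13 : g = 1 ∨ g = 3 := (Nat.dvd_prime Nat.prime_three).1 (hg ▸ Nat.gcd_dvd_left 3 (q + 1))
  rcases Nat.lt_or_ge f 2 with h3f | h3f
  · have : f = 1 := by omega
    subst this
    exact hq
  · exfalso
    have h8 : q % 4 = 0 := by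
      rw [hq]
      obtain ⟨k, rfl⟩ : ∃ k, f = k + 2 := ⟨f - 2, by omega⟩
      rw [pow_add]; omega
    rcases hg13 with h5 | h5
    · rw [h5, one_mul] at hu
      -- `3 ∣ x`, so `3 ∣ q + 1`
      have h9 : q % 3 ≠ 0 := by
        intro h0
        have : 3 ∣ 2 ^ f := by rw [← hq]; exact Nat.dvd_of_mod_eq_zero h0
        have := Nat.Prime.dvd_of_dvd_pow Nat.prime_three this
        omega
      have h10 : x ^ 2 % 3 = 0 ∨ x ^ 2 % 3 = 1 := by
        have h : x % 3 = 0 ∨ x % 3 = 1 ∨ x % 3 = 2 := by omega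
        rw [Nat.pow_mod]
        rcases h with h | h | h <;> rw [h] <;> norm_num
      have h11 : 3 ∣ q + 1 := by omega
      have h12 : Nat.gcd 3 (q + 1) = 3 := Nat.gcd_eq_left h11
      omega
    · rw [h5] at hu
      have := sq_mod_four x
      omega

end Cfsg.Agent.H398.CC.Arith
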