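import Cfsg.Agent.H163.Steinberg
import Cfsg.Agent.H996.AllSplit
import Cfsg.Agent.H398.CC.Known

/-!
# The Steinberg characters of the finite simple groups of Lie type
-/

set_option autoImplicit false

namespace Cfsg.Agent.H398.CC

open Cfsg

universe u

theorem hasStein_of_sylow {p : ℕ} [hp : Fact p.Prime] {G : Type*} [Group G] [Finite G]
    (h : ∃ χ : G → ℂ, IsIrrCharacter G χ ∧ ∀ Q : Sylow p G, χ 1 = Nat.card Q ∧
      ∀ x : G, x ∈ Q → x ≠ 1 → χ x = 0) : HasStein p G := by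
  obtain ⟨χ, hχ, h⟩ := h
  have P0 : Sylow p G := default
  refine ⟨χ, hχ, ?_, ?_⟩
  · rw [(h P0).1, P0.card_eq_multiplicity]
  · rintro x ⟨k, hk⟩ hx1
    have h1 : IsPGroup p (Subgroup.zpowers x) := by
      rintro ⟨y, hy⟩
      obtain ⟨m, rfl⟩ := Subgroup.mem_zpowers_iff.1 hy
      refine ⟨k, Subtype.ext ?_⟩
      show (x ^ m) ^ p ^ k = 1
      rw [← zpow_natCast, ← zpow_mul, mul_comm, zpow_mul, zpow_natCast, hk, one_zpow]
    obtain ⟨P, hP⟩ := h1.exists_le_sylow
    exact (h P).2 x (hP (Subgroup.mem_zpowers x)) hx1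

/-- **The Steinberg character** of a finite simple group of Lie type. -/
theorem steinHyp : SteinHyp.{u} := by
  intro p X _ _ _ hp hX
  have := Fact.mk hp
  exact hasStein_of_sylow (Cfsg.Agent.H163.Steinberg.exists_irr_of_hasSplit
    (Cfsg.Agent.H996.AllSplit.hasSplit_of_lie hp hX))

end Cfsg.Agent.H398.CC
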